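import Groth.Agent.Lift.K561.SecDvr
import Groth.Agent.Lift.K696.ProjRep
import Groth.Agent.Ega2.WeightPull
import Groth.Agent.S0002
import Groth.Agent.CurvesB.HZero

/-!
# The projective representation on the sections of an invariant invertible module

`f : X ⟶ Spec V` proper and flat over a discrete valuation ring of mixed characteristic with algebraically closed
residue field, `j : Z ⟶ X` its closed fibre, connected and reduced, `L` an invertible module on `X` with
`H^1(Z, j^* L) = 0`, and `G` a finite commutative group of exponent `p` acting on `X` over `V`, with `g^* L ≅ L`.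
If the order of `G` is large, some `g ≠ 1` preserves all the loci `D(s)` of the sections of `j^* L`.
-/

set_option autoImplicit false
universe u

open CategoryTheory CategoryTheory.Limits AlgebraicGeometry TopologicalSpace Opposite

namespace K561.Core

open Groth.Agent Groth.Agent.Fdesc.LocGen Groth.Agent.Sga7.H543.SpecFib Groth.Agent.K382

section Gen

variable {X Z : Scheme.{u}}

/-- The locus where a section generates. -/
noncomputable abbrev D {L : X.Modules} (s : Γ(L, ⊤)) : X.Opens := CohB1.genLocus L (homOf s)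

theorem D_pullTop (j : Z ⟶ X) {L : X.Modules} (hL : PicF.IsInvertible L) (s : Γ(L, ⊤)) :
    D (pullTop j s) = j ⁻¹ᵁ D s := by
  have h := Ega2.Weight.genLocus_pullHom j hL (homOf s)
  have h1 : sec (homOf s) ⊤ = s := by rw [sec_homOf, res_refl]
  have h2 : Ega2.Weight.pullHom j (homOf s) = homOf (pullTop j s) := by
    unfold Ega2.Weight.pullHom
    rw [h1]
    rfl
  rw [h2] at h
  exact h

theorem D_app {L M : X.Modules} (φ : L ⟶ M) [IsIso φ] (s : Γ(L, ⊤)) : D (φ.app ⊤ s) = D s := by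
  have h := Ega2.Weight.genLocus_comp (homOf s) φ
  have h1 : homOf s ≫ φ = homOf (φ.app ⊤ s) := hom_ext_sec (by
    rw [sec_comp, sec_homOf, sec_homOf, res_refl, res_refl])
  rw [h1] at h
  exact h

theorem mem_D_iff {L : X.Modules} (s : Γ(L, ⊤)) (x : X) :
    x ∈ D s ↔ ∃ V : X.Opens, x ∈ V ∧ IsGen (res L (le_top : V ≤ ⊤) s) := by
  rw [mem_genLocus_iff]
  simp only [sec_homOf]

theorem D_smul {L : X.Modules} (s : Γ(L, ⊤)) {a : Γ(X, ⊤)} (ha : IsUnit a) : D (a • s) = D s := by
  ext x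
  change x ∈ D _ ↔ x ∈ D _
  rw [mem_D_iff, mem_D_iff]
  refine exists_congr fun W => and_congr_right fun _ => ?_
  rw [res_smul]
  have hu : IsUnit (ores (le_top : W ≤ ⊤) a) := ha.map _
  refine ⟨fun h => ?_, fun h => h.unit_smul hu⟩
  obtain ⟨b, hb⟩ := hu.exists_left_inv
  have h1 := h.unit_smul (IsUnit.of_mul_eq_one _ hb)
  rwa [smul_smul, hb, one_smul] at h1

/-- An endomorphism of an invertible module is the multiplication by a function. -/
theorem exists_fun_of_hom {L : X.Modules} (hL : PicF.IsInvertible L) (α : L ⟶ L) :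
    ∃ a : Γ(X, ⊤), ∀ (U : X.Opens) (s : Γ(L, U)), α.app U s = ores (le_top : U ≤ ⊤) a • s := by
  rw [isInvertible_iff] at hL
  choose U e hxU he using hL
  choose a ha using fun x => (he x).exists_eq (α.app (U x) (e x))
  have hcov : (⊤ : X.Opens) ≤ ⨆ x : X, U x := fun x _ => Opens.mem_iSup.2 ⟨x, hxU x⟩
  have hkey : ∀ (x : X) (W : X.Opens) (hW : W ≤ U x) (s : Γ(L, W)), α.app W s = ores hW (a x) • s := by
    intro x W hW s
    obtain ⟨c, hc⟩ := ((he x).res hW).exists_eq s
    have h1 := congrArg (res L hW) (ha x)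
    rw [← app_res, res_smul] at h1
    rw [hc, Scheme.Modules.Hom.app_smul, h1, smul_smul, smul_smul, mul_comm]
  obtain ⟨A, hA⟩ := ores_glue (X := X) U (fun x => le_top) hcov a (by
    intro x y
    refine ((he x).res (inf_le_left : U x ⊓ U y ≤ U x)).ext ?_
    rw [← hkey x, ← hkey y])
  refine ⟨A, fun W s => ?_⟩
  refine res_ext L (fun x : X => W ⊓ U x) (fun x => inf_le_left) ?_ fun x => ?_
  · intro x hx
    exact Opens.mem_iSup.2 ⟨x, hx, hxU x⟩
  · rw [← app_res, hkey x _ inf_le_right, res_smul, ← hA x, ores_ores, ores_ores]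

/-- An automorphism of an invertible module is the multiplication by an invertible function. -/
theorem exists_unit_of_iso {L : X.Modules} (hL : PicF.IsInvertible L) (α : L ⟶ L) [IsIso α] :
    ∃ a : Γ(X, ⊤), IsUnit a ∧ ∀ (U : X.Opens) (s : Γ(L, U)), α.app U s = ores (le_top : U ≤ ⊤) a • s := by
  obtain ⟨a, ha⟩ := exists_fun_of_hom hL α
  obtain ⟨b, hb⟩ := exists_fun_of_hom hL (inv α)
  refine ⟨a, ?_, ha⟩
  refine IsUnit.of_mul_eq_one b ?_
  have hL' := hL
  rw [isInvertible_iff] at hL'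
  choose U e hxU he using hL'
  refine ores_ext U (fun x => le_top) (fun x _ => Opens.mem_iSup.2 ⟨x, hxU x⟩) fun x => (he x).ext ?_
  have h1 : α.app (U x) ((inv α).app (U x) (e x)) = e x := by
    have h3 : inv α ≫ α = 𝟙 _ := by simp
    exact congr(($(h3).app (U x)) (e x))
  rw [map_mul, map_one, one_smul, mul_smul, ← hb, ← ha, h1]

end Gen

section Fin

theorem isFinLocFree {X : Scheme.{u}} {L : X.Modules} (hL : PicF.IsInvertible L) : FlatMod.IsFinLocFree L :=
  fun x => by
  obtain ⟨U, hx, ⟨e⟩⟩ := hL x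
  refine ⟨U, 1, hx, ⟨e ≪≫ ?_⟩⟩
  exact Iso.symm
    { hom := Sigma.desc (fun _ => 𝟙 _)
      inv := Sigma.ι (fun _ : Fin 1 => Coh.structureModule (↑U)) 0
      hom_inv_id := by
        apply Sigma.hom_ext
        intro b
        fin_cases b
        simp
      inv_hom_id := by simp }

variable {V : Type u} [CommRing V] {X : Scheme.{u}} (f : X ⟶ Spec (CommRingCat.of V)) {L : X.Modules}

/-- The module structure on sections. -/
noncomputable abbrev modV (L : X.Modules) : Module V Γ(L, ⊤) := Module.compHom Γ(L, ⊤)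
  ((f.appTop).hom.comp (Scheme.ΓSpecIso (CommRingCat.of V)).inv.hom : V →+* Γ(X, ⊤))

theorem modV_smul (v : V) (s : Γ(L, ⊤)) : letI := modV f L; v • s = fn f v • s := rfl

theorem finite_sections [IsNoetherianRing V] [IsProper f] (hL : PicF.IsInvertible L) :
    letI := modV f L; Module.Finite V Γ(L, ⊤) := by
  let _ : X.Over (Spec (CommRingCat.of V)) := ⟨f⟩
  have hX : IsLocallyNoetherian X := LocallyOfFiniteType.isLocallyNoetherian f
  have hp : IsProper (X ↘ Spec (CommRingCat.of V)) := inferInstanceAs (IsProper f)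
  have hc : Coh.IsCoh L := PerfA.CohSerre.isCoh_of_isFinLocFree (isFinLocFree hL)
  have := S0002.result V X L hc 0
  let _ := modV f L
  exact Module.Finite.equiv (CurvesB.HZero.equivLin V L)

variable [IsDomain V] [IsDiscreteValuationRing V] [Flat f]

theorem free_sections [IsProper f] (hL : PicF.IsInvertible L) : letI := modV f L; Module.Free V Γ(L, ⊤) := by
  let _ := modV f L
  have := finite_sections f hL
  have : Module.IsTorsionFree V Γ(L, ⊤) := ⟨fun r hr s t h => by
    refine SecDvr.smul_cancel f hr.ne_zero hL s t ?_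
    rw [ores_refl]
    exact h⟩
  infer_instance

variable {Z : Scheme.{u}} {j : Z ⟶ X} {q : Z ⟶ Spec (CommRingCat.of (IsLocalRing.ResidueField V))}
    (hj : IsPullback j q f (Spec.map (CommRingCat.ofHom (IsLocalRing.residue V))))

include hj in
/-- The global functions on the closed fibre come from the base. -/
theorem exists_fn_eq [IsProper f] [IsAlgClosed (IsLocalRing.ResidueField V)] [ConnectedSpace Z] [IsReduced Z]
    (c : Γ(Z, ⊤)) : ∃ v : V, (j.app ⊤).hom (fn f v) = c := by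
  obtain ⟨d, hd⟩ := GenInt.appTop_surjective_special f hj c
  obtain ⟨r, hr⟩ := IsLocalRing.residue_surjective
    ((Scheme.ΓSpecIso (CommRingCat.of (IsLocalRing.ResidueField V))).hom.hom d)
  refine ⟨r, ?_⟩
  rw [← hd]
  have h3 : (Scheme.ΓSpecIso (CommRingCat.of V)).inv ≫ f.appTop ≫ j.appTop =
      CommRingCat.ofHom (IsLocalRing.residue V) ≫
        (Scheme.ΓSpecIso (CommRingCat.of (IsLocalRing.ResidueField V))).inv ≫ q.appTop := by
    rw [← Scheme.Hom.comp_appTop, hj.w, Scheme.Hom.comp_appTop,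
      ← Scheme.ΓSpecIso_inv_naturality_assoc]
  have h4 := congr(($h3).hom r)
  have h5 : d = (Scheme.ΓSpecIso (CommRingCat.of (IsLocalRing.ResidueField V))).inv.hom
      (IsLocalRing.residue V r) := by
    rw [hr]
    exact ((Scheme.ΓSpecIso (CommRingCat.of
      (IsLocalRing.ResidueField V))).hom_inv_id_apply d).symm
  rw [h5]
  exact h4

include hj in
/-- The rank of the module of sections. -/
theorem finrank_le [IsProper f] [IsAlgClosed (IsLocalRing.ResidueField V)] [ConnectedSpace Z] [IsReduced Z]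
    (hL : PicF.IsInvertible L)
    (h1 : Subsingleton (Coh.HH Z ((Scheme.Modules.pullback j).obj L) 1)) (n : ℕ)
    (b : Fin n → Γ((Scheme.Modules.pullback j).obj L, ⊤))
    (hb : ∀ t : Γ((Scheme.Modules.pullback j).obj L, ⊤), ∃ c : Fin n → Γ(Z, ⊤), t = ∑ i, c i • b i) :
    letI := modV f L; Module.finrank V Γ(L, ⊤) ≤ n := by
  let _ := modV f L
  have hfin := finite_sections f hL
  obtain ⟨ϖ, hϖ⟩ := IsDiscreteValuationRing.exists_irreducible V
  choose B hB using fun i => SecDvr.exists_lift f hj (isFinLocFree hL) h1 (b i)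
  have hspan : Submodule.span V (Set.range B) = ⊤ := by
    refine top_le_iff.mp (Submodule.le_of_le_smul_of_le_jacobson_bot (I := IsLocalRing.maximalIdeal V)
      (Module.Finite.fg_top (R := V) (M := Γ(L, ⊤)))
      (IsLocalRing.jacobson_eq_maximalIdeal ⊥ bot_ne_top).ge ?_)
    intro s _
    obtain ⟨c, hc⟩ := hb (pullTop j s)
    choose v hv using fun i => exists_fn_eq f hj (c i)
    obtain ⟨t, ht⟩ := SecDvr.exists_smul_eq f hj hϖ hL (s - ∑ i, v i • B i) (by
      have hadd : ∀ x y : Γ(L, ⊤), pullTop j (x + y) = pullTop j x + pullTop j y := fun x y => pullSec_add j x y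
      let P : Γ(L, ⊤) →+ Γ((Scheme.Modules.pullback j).obj L, ⊤) := AddMonoidHom.mk' (pullTop j) hadd
      change P (s - ∑ i, v i • B i) = 0
      rw [map_sub, map_sum, sub_eq_zero]
      change pullTop j s = ∑ i, pullTop j (v i • B i)
      rw [hc]
      refine Finset.sum_congr rfl fun i _ => ?_
      rw [← hv i, ← hB i]
      exact (pullSec_smul j (fn f (v i)) (B i)).symm)
    have h6 : s = ∑ i, v i • B i + ϖ • t := by
      rw [← sub_eq_iff_eq_add']
      exact ht
    rw [h6]
    refine Submodule.add_mem_sup (Submodule.sum_mem _ fun i _ =>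
      Submodule.smul_mem _ _ (Submodule.subset_span ⟨i, rfl⟩)) (Submodule.smul_mem_smul ?_ trivial)
    rw [hϖ.maximalIdeal_eq]
    exact Ideal.mem_span_singleton_self ϖ
  have h := finrank_le_of_span_eq_top hspan
  rwa [Fintype.card_fin] at h

end Fin

section Rep

variable {V : Type u} [CommRing V] [IsDomain V] [IsDiscreteValuationRing V]
  {X : Scheme.{u}} (f : X ⟶ Spec (CommRingCat.of V)) [IsProper f] [Flat f] {L : X.Modules}
  (hL : PicF.IsInvertible L)
  {Z : Scheme.{u}} {j : Z ⟶ X} {q : Z ⟶ Spec (CommRingCat.of (IsLocalRing.ResidueField V))}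
  (hj : IsPullback j q f (Spec.map (CommRingCat.ofHom (IsLocalRing.residue V))))

/-- The operator on sections attached to an isomorphism `σ^* L ≅ L`. -/
noncomputable def op (σ : X ⟶ X) (hσ : σ ≫ f = f) (θ : (Scheme.Modules.pullback σ).obj L ≅ L) :
    letI := modV f L; Γ(L, ⊤) →ₗ[V] Γ(L, ⊤) :=
  letI := modV f L
  { toFun := fun s => θ.hom.app ⊤ (pullTop σ s)
    map_add' := fun s t => by
      have h : pullTop σ (s + t) = pullTop σ s + pullTop σ t := pullSec_add σ s t
      rw [h, map_add]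
    map_smul' := fun v s => by
      have h : pullTop σ (fn f v • s) = fn f v • pullTop σ s := by
        refine (pullSec_smul σ (fn f v) s).trans ?_
        have h1 : (show Γ(X, ⊤) from (σ.app ⊤).hom (fn f v)) = fn f v := by
          have h2 : f.appTop ≫ σ.appTop = f.appTop := by rw [← Scheme.Hom.comp_appTop, hσ]
          exact congr(($h2).hom ((Scheme.ΓSpecIso (CommRingCat.of V)).inv.hom v))
        exact congrArg (fun a : Γ(X, ⊤) => a • pullTop σ s) h1
      change θ.hom.app ⊤ (pullTop σ (fn f v • s)) = fn f v • θ.hom.app ⊤ (pullTop σ s)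
      rw [h, Scheme.Modules.Hom.app_smul] }

omit [IsDomain V] [IsDiscreteValuationRing V] [IsProper f] [Flat f] in
theorem op_apply (σ : X ⟶ X) (hσ : σ ≫ f = f) (θ : (Scheme.Modules.pullback σ).obj L ≅ L) (s : Γ(L, ⊤)) :
    letI := modV f L; op f σ hσ θ s = θ.hom.app ⊤ (pullTop σ s) := rfl

include hL in
omit [IsDomain V] [IsDiscreteValuationRing V] [IsProper f] [Flat f] in
theorem D_op (σ : X ⟶ X) (hσ : σ ≫ f = f) (θ : (Scheme.Modules.pullback σ).obj L ≅ L) (s : Γ(L, ⊤)) :
    letI := modV f L; D (op f σ hσ θ s) = σ ⁻¹ᵁ D s := by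
  change D (θ.hom.app ⊤ (pullTop σ s)) = _
  rw [D_app, D_pullTop _ hL]

include hL in
omit [IsDomain V] [IsDiscreteValuationRing V] [IsProper f] [Flat f] in
/-- Two isomorphisms define the same operator up to an invertible scalar. -/
theorem exists_scalar (hb : Function.Bijective f.appTop) (σ : X ⟶ X) (φ κ : (Scheme.Modules.pullback σ).obj L ≅ L) :
    ∃ c : V, IsUnit c ∧ ∀ s : Γ(L, ⊤), φ.hom.app ⊤ (pullTop σ s) = fn f c • κ.hom.app ⊤ (pullTop σ s) := by
  obtain ⟨a, hau, ha⟩ := exists_unit_of_iso hL (κ.inv ≫ φ.hom)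
  obtain ⟨b, hb'⟩ := hb.2 a
  have hbu : IsUnit b := by
    have h3 : IsUnit (f.appTop.hom b) := by
      change IsUnit (f.appTop b)
      rw [hb']
      exact hau
    obtain ⟨d, hd⟩ := h3.exists_right_inv
    obtain ⟨d', rfl⟩ := hb.2 d
    refine IsUnit.of_mul_eq_one d' (hb.1 ?_)
    change f.appTop.hom (b * d') = f.appTop.hom 1
    rw [map_mul, map_one]
    exact hd
  let v : V := (Scheme.ΓSpecIso (CommRingCat.of V)).hom.hom b
  have hv : fn f v = a := by
    rw [← hb']
    exact congrArg f.appTop ((Scheme.ΓSpecIso (CommRingCat.of V)).hom_inv_id_apply b)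
  refine ⟨v, hbu.map _, fun s => ?_⟩
  have h4 : φ.hom = κ.hom ≫ (κ.inv ≫ φ.hom) := by rw [Iso.hom_inv_id_assoc]
  rw [h4]
  change (κ.inv ≫ φ.hom).app ⊤ (κ.hom.app ⊤ (pullTop σ s)) = _
  rw [ha, ores_refl, hv]

include hL in
omit [IsDomain V] [IsDiscreteValuationRing V] [IsProper f] [Flat f] in
/-- The composition of two operators. -/
theorem op_op (hb : Function.Bijective f.appTop) (σ τ ρ : X ⟶ X) (hσ : σ ≫ f = f) (hτ : τ ≫ f = f)
    (hρ : ρ ≫ f = f) (h : σ ≫ τ = ρ)
    (θ : (Scheme.Modules.pullback σ).obj L ≅ L) (η : (Scheme.Modules.pullback τ).obj L ≅ L)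
    (κ : (Scheme.Modules.pullback ρ).obj L ≅ L) :
    letI := modV f L; ∃ c : V, IsUnit c ∧ ∀ s, op f σ hσ θ (op f τ hτ η s) = c • op f ρ hρ κ s := by
  subst h
  let φ : (Scheme.Modules.pullback (σ ≫ τ)).obj L ≅ L :=
    ((Scheme.Modules.pullbackComp σ τ).app L).symm ≪≫ (Scheme.Modules.pullback σ).mapIso η ≪≫ θ
  obtain ⟨c, hc, h⟩ := exists_scalar f hL hb (σ ≫ τ) φ κ
  refine ⟨c, hc, fun s => ?_⟩
  refine Eq.trans ?_ (h s)
  have h1 : ((Scheme.Modules.pullback σ).map η.hom).app ⊤ (pullTop σ (pullTop τ s)) =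
      pullTop σ (η.hom.app ⊤ (pullTop τ s)) := pullback_map_pullSec σ η.hom (U := ⊤) (pullTop τ s)
  have h2 : ((Scheme.Modules.pullbackComp σ τ).inv.app L).app ⊤ (pullTop (σ ≫ τ) s) =
      pullTop σ (pullTop τ s) := pullSec_comp σ τ (M := L) (U := ⊤) s
  change θ.hom.app ⊤ (pullTop σ (η.hom.app ⊤ (pullTop τ s))) =
    θ.hom.app ⊤ (((Scheme.Modules.pullback σ).map η.hom).app ⊤
      (((Scheme.Modules.pullbackComp σ τ).inv.app L).app ⊤ (pullTop (σ ≫ τ) s)))
  rw [h2, h1]

/-- The pullback of sections along the identity. -/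
theorem pullSec_id {Y : Scheme.{u}} {N : Y.Modules} {U : Y.Opens} (m : Γ(N, U)) :
    ((Scheme.Modules.pullbackId Y).hom.app N).app U (pullSec (𝟙 Y) m) = m := by
  have h := unit_conjugateEquiv .id (Scheme.Modules.pullbackPushforwardAdjunction (𝟙 Y))
    (Scheme.Modules.pullbackId Y).hom N
  rw [Scheme.Modules.conjugateEquiv_pullbackId_hom] at h
  exact congr(($(h).app U) m).symm

include hL in
omit [IsDomain V] [IsDiscreteValuationRing V] [IsProper f] [Flat f] in
/-- The operator of the identity. -/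
theorem op_id (hb : Function.Bijective f.appTop) (ρ : X ⟶ X) (hρ : ρ ≫ f = f) (h : ρ = 𝟙 X)
    (κ : (Scheme.Modules.pullback ρ).obj L ≅ L) :
    letI := modV f L; ∃ c : V, IsUnit c ∧ ∀ s, s = c • op f ρ hρ κ s := by
  subst h
  obtain ⟨c, hc, h⟩ := exists_scalar f hL hb (𝟙 X) ((Scheme.Modules.pullbackId X).app L) κ
  refine ⟨c, hc, fun s => ?_⟩
  refine Eq.trans ?_ (h s)
  exact (pullSec_id (U := ⊤) s).symm

variable (hj : IsPullback j q f (Spec.map (CommRingCat.ofHom (IsLocalRing.residue V))))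

include hL hj in
/-- The main statement over a discrete valuation ring. -/
theorem main [IsAlgClosed (IsLocalRing.ResidueField V)] [ConnectedSpace Z] [IsReduced Z]
    {G : Type*} [CommGroup G] [Finite G] {p : ℕ} [Fact p.Prime] (hp : ∀ g : G, g ^ p = 1) (hpV : (p : V) ≠ 0)
    (h1 : Subsingleton (Coh.HH Z ((Scheme.Modules.pullback j).obj L) 1)) (n : ℕ)
    (b : Fin n → Γ((Scheme.Modules.pullback j).obj L, ⊤))
    (hb : ∀ t : Γ((Scheme.Modules.pullback j).obj L, ⊤), ∃ c : Fin n → Γ(Z, ⊤), t = ∑ i, c i • b i)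
    (hne : Nontrivial Γ((Scheme.Modules.pullback j).obj L, ⊤))
    (hG : p ^ (2 * (n - 1)) < Nat.card G)
    (σ : G → (X ⟶ X)) (hσf : ∀ g, σ g ≫ f = f) (hσ : ∀ g h, σ g ≫ σ h = σ (g * h)) (hσ1 : σ 1 = 𝟙 X)
    (hθ : ∀ g, Nonempty ((Scheme.Modules.pullback (σ g)).obj L ≅ L))
    (τ : G → (Z ⟶ Z)) (hτ : ∀ g, τ g ≫ j = j ≫ σ g) :
    ∃ g : G, g ≠ 1 ∧ ∀ t : Γ((Scheme.Modules.pullback j).obj L, ⊤), τ g ⁻¹ᵁ D t = D t := by
  let _ := modV f L
  have hfin := finite_sections f hL
  have hfree := free_sections f hL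
  have hrank := finrank_le f hj hL h1 n b hb
  have hbij : Function.Bijective f.appTop := GenInt.appTop_bijective f hj
  have hlift := SecDvr.exists_lift f hj (isFinLocFree hL) h1
  have hnt : Nontrivial Γ(L, ⊤) := by
    obtain ⟨t, ht⟩ := exists_ne (0 : Γ((Scheme.Modules.pullback j).obj L, ⊤))
    obtain ⟨s, rfl⟩ := hlift t
    refine ⟨s, 0, ?_⟩
    rintro rfl
    exact ht (map_zero (((Scheme.Modules.pullbackPushforwardAdjunction j).unit.app L).app ⊤).hom)
  let θ : ∀ g, (Scheme.Modules.pullback (σ g)).obj L ≅ L := fun g => (hθ g).some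
  let A : G → Module.End V Γ(L, ⊤) := fun g => op f (σ g) (hσf g) (θ g)
  have hA : ∀ g h, ∃ c : V, IsUnit c ∧ A g * A h = c • A (g * h) := fun g h => by
    obtain ⟨c, hc, h⟩ := op_op f hL hbij (σ g) (σ h) (σ (g * h)) (hσf g) (hσf h) (hσf _) (hσ g h) (θ g) (θ h)
      (θ (g * h))
    exact ⟨c, hc, LinearMap.ext h⟩
  have hA1 : ∃ c : V, IsUnit c ∧ 1 = c • A 1 := by
    obtain ⟨c, hc, h⟩ := op_id f hL hbij (σ 1) (hσf 1) hσ1 (θ 1)
    exact ⟨c, hc, LinearMap.ext h⟩
  have hinv : ∀ g h, g * h = 1 → ∃ c : V, A g * (c • A h) = 1 ∧ (c • A g) * A h = 1 := fun g h hgh => by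
    obtain ⟨c, hc, h2⟩ := hA g h
    obtain ⟨d, hd, h3⟩ := hA1
    obtain ⟨c', hc'⟩ := hc.exists_left_inv
    have h4 : (d * c') • (A g * A h) = 1 := by
      rw [h2, hgh, smul_smul, mul_assoc, hc', mul_one, ← h3]
    exact ⟨d * c', by rw [mul_smul_comm, h4], by rw [smul_mul_assoc, h4]⟩
  have hu : ∀ g, IsUnit (A g) := by
    intro g
    obtain ⟨c, h2, -⟩ := hinv g g⁻¹ (mul_inv_cancel g)
    obtain ⟨d, -, h3⟩ := hinv g⁻¹ g (inv_mul_cancel g)
    exact isUnit_iff_exists_and_exists.2 ⟨⟨_, h2⟩, ⟨_, h3⟩⟩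
  obtain ⟨g, hg, c, hc⟩ := K696.ProjRep.exists_scalar_ring hpV hp
    (lt_of_le_of_lt (Nat.pow_le_pow_right (Fact.out : p.Prime).pos (by omega)) hG) A hu
    (fun g h => by
      obtain ⟨c, hc, h⟩ := hA g h
      exact ⟨c, hc.ne_zero, h⟩)
  refine ⟨g, hg, fun t => ?_⟩
  obtain ⟨s, rfl⟩ := hlift t
  have hcu : IsUnit c := by
    let B := Module.Free.chooseBasis V Γ(L, ⊤)
    have hB : Nonempty (Module.Free.ChooseBasisIndex V Γ(L, ⊤)) := B.index_nonempty
    let i := Classical.arbitrary (Module.Free.ChooseBasisIndex V Γ(L, ⊤))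
    obtain ⟨d, h2, -⟩ := hinv g g⁻¹ (mul_inv_cancel g)
    have h3 := congrArg (fun T : Module.End V Γ(L, ⊤) => B.repr (T (B i)) i) h2
    simp only [Module.End.mul_apply, hc, map_smul, Module.End.one_apply, Module.Basis.repr_self,
      Finsupp.single_eq_same, Finsupp.smul_apply, smul_eq_mul] at h3
    exact IsUnit.of_mul_eq_one _ h3
  have h2 : σ g ⁻¹ᵁ D s = D s := by
    rw [← D_op f hL (σ g) (hσf g) (θ g) s]
    change D (A g s) = _
    rw [hc s]
    exact D_smul s (hcu.map ((f.appTop).hom.comp (Scheme.ΓSpecIso (CommRingCat.of V)).inv.hom))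
  rw [D_pullTop j hL, ← Scheme.Hom.comp_preimage, hτ, Scheme.Hom.comp_preimage, h2]

end Rep

end K561.Core
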