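import Groth.Agent.Pi1A.FEtAffine
import Groth.Agent.S0240

/-!
# Lifting finite étale covers and their endomorphisms from the closed fibre
-/

set_option autoImplicit false
universe u

open CategoryTheory CategoryTheory.Limits AlgebraicGeometry

namespace K561.Cover

/-- The projection of a base change of finite etale covers. -/
noncomputable def pr {X Y : Scheme.{u}} (f : X ⟶ Y) (V : FEt.Cat Y) :
    ((FEt.restrict f).obj V).left ⟶ V.left := pullback.fst V.hom f

theorem isPullback_pr {X Y : Scheme.{u}} (f : X ⟶ Y) (V : FEt.Cat Y) :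
    IsPullback (pr f V) ((FEt.restrict f).obj V).hom V.hom f := IsPullback.of_hasPullback V.hom f

theorem restrict_map_pr {X Y : Scheme.{u}} (f : X ⟶ Y) {V V' : FEt.Cat Y} (Φ : V ⟶ V') :
    ((FEt.restrict f).map Φ).left ≫ pr f V' = pr f V ≫ Φ.left :=
  pullback.lift_fst _ _ _

theorem left_comp {X : Scheme.{u}} {U V W : FEt.Cat X} (a : U ⟶ V) (b : V ⟶ W) :
    (a ≫ b).left = a.left ≫ b.left := rfl

theorem left_id {X : Scheme.{u}} (U : FEt.Cat X) : (𝟙 U : U ⟶ U).left = 𝟙 _ := rfl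

theorem left_w {X : Scheme.{u}} {V W : FEt.Cat X} (e : V ⟶ W) : e.left ≫ W.hom = V.hom :=
  Over.w e.hom

/-- A cartesian square identifies a base change of finite etale covers. -/
noncomputable def bcIso {X Y : Scheme.{u}} (f : X ⟶ Y) (V : FEt.Cat Y) (W : FEt.Cat X)
    (g : W.left ⟶ V.left) (h : IsPullback g W.hom V.hom f) : (FEt.restrict f).obj V ≅ W :=
  MorphismProperty.Over.isoMk h.isoPullback.symm (by exact h.isoPullback_inv_snd)

theorem bcIso_inv_pr {X Y : Scheme.{u}} (f : X ⟶ Y) (V : FEt.Cat Y) (W : FEt.Cat X)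
    (g : W.left ⟶ V.left) (h : IsPullback g W.hom V.hom f) :
    (bcIso f V W g h).inv.left ≫ pr f V = g :=
  h.isoPullback_hom_fst

theorem bcIso_hom_pr {X Y : Scheme.{u}} (f : X ⟶ Y) (V : FEt.Cat Y) (W : FEt.Cat X)
    (g : W.left ⟶ V.left) (h : IsPullback g W.hom V.hom f) :
    (bcIso f V W g h).hom.left ≫ g = pr f V :=
  h.isoPullback_inv_fst

/-- Lifting morphisms of finite etale covers. -/
theorem exists_lift {X Y : Scheme.{u}} (f : X ⟶ Y) [(FEt.restrict f).Full]
    {V V' : FEt.Cat Y} {W W' : FEt.Cat X} (g : W.left ⟶ V.left) (h : IsPullback g W.hom V.hom f)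
    (g' : W'.left ⟶ V'.left) (h' : IsPullback g' W'.hom V'.hom f) (φ : W ⟶ W') :
    ∃ Φ : V ⟶ V', g ≫ Φ.left = φ.left ≫ g' := by
  obtain ⟨Φ, hΦ⟩ := (FEt.restrict f).map_surjective
    ((bcIso f V W g h).hom ≫ φ ≫ (bcIso f V' W' g' h').inv)
  refine ⟨Φ, ?_⟩
  have h1 := restrict_map_pr f Φ
  rw [hΦ, left_comp, left_comp, Category.assoc, Category.assoc, bcIso_inv_pr,
    ← bcIso_hom_pr f V W g h, Category.assoc] at h1
  have h2 := congrArg (fun t => (bcIso f V W g h).inv.left ≫ t) h1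
  rw [← Category.assoc, ← left_comp, Iso.inv_hom_id, left_id, Category.id_comp,
    ← Category.assoc, ← left_comp, Iso.inv_hom_id, left_id, Category.id_comp] at h2
  exact h2.symm

theorem lift_unique {X Y : Scheme.{u}} (f : X ⟶ Y) [(FEt.restrict f).Faithful]
    {V V' : FEt.Cat Y} {W : FEt.Cat X} (g : W.left ⟶ V.left) (h : IsPullback g W.hom V.hom f)
    (Φ Ψ : V ⟶ V') (he : g ≫ Φ.left = g ≫ Ψ.left) : Φ = Ψ := by
  apply (FEt.restrict f).map_injective
  apply MorphismProperty.Over.Hom.ext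
  apply (isPullback_pr f V').hom_ext
  · rw [restrict_map_pr, restrict_map_pr, ← bcIso_hom_pr f V W g h, Category.assoc,
      Category.assoc, he]
  · rw [left_w, left_w]

/-- Restriction to the closed fibre is an equivalence. -/
theorem isEquivalence (A : Type u) [CommRing A] [HenselianLocalRing A] {X Z : Scheme.{u}}
    (f : X ⟶ Spec (CommRingCat.of A)) [IsProper f] {i : Z ⟶ X}
    {q : Z ⟶ Spec (CommRingCat.of (IsLocalRing.ResidueField A))}
    (h : IsPullback i q f (Spec.map (CommRingCat.ofHom (IsLocalRing.residue A)))) :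
    (FEt.restrict i).IsEquivalence := by
  have he := Groth.Agent.S0240.result A f
  have h1 : h.isoPullback.hom ≫ pullback.fst f _ = i := h.isoPullback_hom_fst
  rw [← h1]
  exact Groth.Agent.Pi1A.FEtAffine.restrict_isEquivalence_comp _ _

/-- A finite étale cover of the closed fibre lifts. -/
theorem exists_cover {X₁ X₂ : Scheme.{u}} (x : X₂ ⟶ X₁)
    [(FEt.restrict x).EssSurj] {V : Scheme.{u}} (h : V ⟶ X₂) [IsFinite h] [Etale h] :
    ∃ (W : Scheme.{u}) (Wh : W ⟶ X₁) (j : V ⟶ W), IsFinite Wh ∧ Etale Wh ∧ IsPullback j h Wh x := by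
  let V₀ : FEt.Cat X₂ := MorphismProperty.Over.mk _ h ⟨inferInstance, inferInstance⟩
  let W := (FEt.restrict x).objPreimage V₀
  let e : (FEt.restrict x).obj W ≅ V₀ := (FEt.restrict x).objObjPreimageIso V₀
  have e1 : e.inv.left ≫ e.hom.left = 𝟙 _ := congrArg (fun f => f.left) e.inv_hom_id
  have e2 : e.hom.left ≫ e.inv.left = 𝟙 _ := congrArg (fun f => f.left) e.hom_inv_id
  have e3 : e.inv.left ≫ ((FEt.restrict x).obj W).hom = h := left_w e.inv
  let i : V ≅ pullback W.hom x := ⟨e.inv.left, e.hom.left, e1, e2⟩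
  have e4 : i.hom ≫ pullback.snd W.hom x = h := e3
  refine ⟨W.left, W.hom, i.hom ≫ pullback.fst W.hom x, W.prop.1, W.prop.2, ?_⟩
  exact IsPullback.of_iso (IsPullback.of_hasPullback W.hom x) i.symm (Iso.refl _) (Iso.refl _)
    (Iso.refl _) (by simp) (by simp [← e4]) (by simp) (by simp)

/-- Endomorphisms of a cover of the closed fibre lift uniquely. -/
theorem exists_end {X₁ X₂ V W : Scheme.{u}} (x : X₂ ⟶ X₁) [(FEt.restrict x).IsEquivalence]
    {h : V ⟶ X₂} {H : W ⟶ X₁} {j : V ⟶ W} [IsFinite H] [Etale H] (hj : IsPullback j h H x)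
    (t : V ⟶ V) (ht : t ≫ h = h) : ∃ T : W ⟶ W, T ≫ H = H ∧ t ≫ j = j ≫ T := by
  have : IsFinite h := MorphismProperty.of_isPullback hj ‹_›
  have : Etale h := MorphismProperty.of_isPullback hj ‹_›
  let V₀ : FEt.Cat X₂ := MorphismProperty.Over.mk _ h ⟨inferInstance, inferInstance⟩
  let W₀ : FEt.Cat X₁ := MorphismProperty.Over.mk _ H ⟨inferInstance, inferInstance⟩
  let φ : V₀ ⟶ V₀ := MorphismProperty.Over.homMk t ht trivial
  obtain ⟨Φ, hΦ⟩ := exists_lift x (V := W₀) (V' := W₀) (W := V₀) (W' := V₀) j hj j hj φ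
  exact ⟨Φ.left, left_w Φ, hΦ.symm⟩

theorem end_unique {X₁ X₂ V W : Scheme.{u}} (x : X₂ ⟶ X₁) [(FEt.restrict x).IsEquivalence]
    {h : V ⟶ X₂} {H : W ⟶ X₁} {j : V ⟶ W} [IsFinite H] [Etale H] (hj : IsPullback j h H x)
    (S T : W ⟶ W) (hS : S ≫ H = H) (hT : T ≫ H = H) (he : j ≫ S = j ≫ T) : S = T := by
  have : IsFinite h := MorphismProperty.of_isPullback hj ‹_›
  have : Etale h := MorphismProperty.of_isPullback hj ‹_›
  let V₀ : FEt.Cat X₂ := MorphismProperty.Over.mk _ h ⟨inferInstance, inferInstance⟩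
  let W₀ : FEt.Cat X₁ := MorphismProperty.Over.mk _ H ⟨inferInstance, inferInstance⟩
  let φ : W₀ ⟶ W₀ := MorphismProperty.Over.homMk S hS trivial
  let ψ : W₀ ⟶ W₀ := MorphismProperty.Over.homMk T hT trivial
  exact congrArg (fun f => f.left) (lift_unique x (V := W₀) (V' := W₀) (W := V₀) j hj φ ψ he)

end K561.Cover
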