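import Groth.Agent.Lift.K561.Core
import Groth.Agent.Lift.K561.Cover
import Groth.Agent.Lift.K696.DvrRed
import Groth.Agent.S11763
import Groth.Agent.S11764
import Groth.Agent.Sga2lef.H77.PicRes
import Groth.Agent.Grpsch.PicGrp
import Groth.Agent.Flat2H.ThickFibre

/-!
# Étale quotients which do not lift to characteristic zero

`Y ⟶ Z` a finite étale cover over an algebraically closed field `k` of characteristic `p`, with a finite commutative
group `G` of exponent `p` acting on `Y` over `Z`, `L` an invertible module on `Y` with `g^* L ≅ L`, and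
`H^1(Y, O) = H^2(Y, O) = H^1(Y, L) = 0`. If the order of `G` is large and every `g ≠ 1` moves the locus `D(s)` of
some section `s` of `L`, then `Z` has no proper flat lifting over a Noetherian local domain of characteristic zero
with residue field `k`.
-/

set_option autoImplicit false
universe u

open CategoryTheory CategoryTheory.Limits AlgebraicGeometry TopologicalSpace Opposite

namespace K561.NoLift

open Groth.Agent Groth.Agent.Fdesc.LocGen Groth.Agent.Grpsch.PicGrp K561.Core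

theorem henselianLocalRing (V : Type u) [CommRing V] [IsLocalRing V]
    [IsAdicComplete (IsLocalRing.maximalIdeal V) V] : HenselianLocalRing V where
  is_henselian f hf a₀ h₁ h₂ := by
    have h : HenselianRing V (IsLocalRing.maximalIdeal V) := inferInstance
    exact HenselianRing.is_henselian f hf a₀ h₁ (h₂.map _)

/-- Two invertible modules with isomorphic restrictions. -/
theorem nonempty_iso {X Z : Scheme.{u}} {j : Z ⟶ X} (hj : Formal2.PicPullbackInjective j) {L M : X.Modules}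
    (hL : PicF.IsInvertible L) (hM : PicF.IsInvertible M)
    (e : Nonempty ((Scheme.Modules.pullback j).obj L ≅ (Scheme.Modules.pullback j).obj M)) : Nonempty (L ≅ M) := by
  rw [← mk_eq_iff hL hM]
  have h1 : pull j (mk L hL) = pull j (mk M hM) := by
    rw [pull_mk, pull_mk, mk_eq_iff]
    exact e
  have h2 : pull j (mk L hL * (mk M hM)⁻¹) = 1 := by rw [map_mul, map_inv, h1, mul_inv_cancel]
  obtain ⟨N, hN, hc⟩ := exists_mk (mk L hL * (mk M hM)⁻¹)
  rw [hc, pull_mk, mk_eq_one_iff] at h2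
  have h3 := hj N hN h2
  rw [← mk_eq_one_iff hN, ← hc, mul_inv_eq_one] at h3
  exact h3

section Dvr

variable {V : Type u} [CommRing V] [IsDomain V] [IsDiscreteValuationRing V]
  [IsAdicComplete (IsLocalRing.maximalIdeal V) V] [IsAlgClosed (IsLocalRing.ResidueField V)]

omit [IsAdicComplete (IsLocalRing.maximalIdeal V) V] [IsAlgClosed (IsLocalRing.ResidueField V)] in
theorem subsingleton_fibre {X Z : Scheme.{u}} {f : X ⟶ Spec (CommRingCat.of V)} {j : Z ⟶ X}
    {q : Z ⟶ Spec (CommRingCat.of (IsLocalRing.ResidueField V))}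
    (hj : IsPullback j q f (Spec.map (CommRingCat.ofHom (IsLocalRing.residue V)))) (n : ℕ)
    (h : Subsingleton (Coh.HH Z (Coh.structureModule Z) n)) :
    Subsingleton (Coh.HH (pullback f (Spec.map (CommRingCat.ofHom (IsLocalRing.residue V))))
      (Coh.structureModule _) n) := by
  refine (Groth.Agent.Flat2H.ThickFibre.subsingleton_HH_pullback_iff hj.isoPullback.hom (Coh.structureModule _)
    ?_ n).1 ?_
  · exact Groth.Agent.Ega2.QCohLocal.isQCoh_structureModule _
  · exact Groth.Agent.Fga.HShift.subsingleton_of_iso (Groth.Agent.Fga.UnitRestrict.pullbackUnitIso _).symm n h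

theorem isInjective {X Z : Scheme.{u}} (f : X ⟶ Spec (CommRingCat.of V)) [IsProper f] [Flat f] {j : Z ⟶ X}
    {q : Z ⟶ Spec (CommRingCat.of (IsLocalRing.ResidueField V))}
    (hj : IsPullback j q f (Spec.map (CommRingCat.ofHom (IsLocalRing.residue V))))
    (h1 : Subsingleton (Coh.HH Z (Coh.structureModule Z) 1)) : Formal2.PicPullbackInjective j :=
  Groth.Agent.Sga2lef.H77.PicRes.injective_of_iso hj.isoPullback.hom _ j hj.isoPullback_hom_fst
    (Groth.Agent.S11764.result V f (subsingleton_fibre hj 1 h1))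

theorem isSurjective {X Z : Scheme.{u}} (f : X ⟶ Spec (CommRingCat.of V)) [IsProper f] [Flat f] {j : Z ⟶ X}
    {q : Z ⟶ Spec (CommRingCat.of (IsLocalRing.ResidueField V))}
    (hj : IsPullback j q f (Spec.map (CommRingCat.ofHom (IsLocalRing.residue V))))
    (h2 : Subsingleton (Coh.HH Z (Coh.structureModule Z) 2)) : Formal2.PicPullbackSurjective j :=
  Groth.Agent.Sga2lef.H77.PicRes.surjective_of_iso hj.isoPullback.hom _ j hj.isoPullback_hom_fst
    (Groth.Agent.S11763.result V f (subsingleton_fibre hj 2 h2))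

/-- The main theorem over a complete discrete valuation ring. -/
theorem not_isPullback_dvr {p : ℕ} [Fact p.Prime] (hpV : (p : V) ≠ 0)
    {Y Z : Scheme.{u}} (q : Y ⟶ Z) [IsFinite q] [Etale q] [ConnectedSpace Y] [IsReduced Y]
    {G : Type*} [CommGroup G] [Finite G] (hG : ∀ γ : G, γ ^ p = 1)
    (ρ : G →* Aut Y) (hρ : ∀ γ, (ρ γ).hom ≫ q = q)
    {L : Y.Modules} (hL : PicF.IsInvertible L)
    (hinv : ∀ γ, Nonempty ((Scheme.Modules.pullback (ρ γ).hom).obj L ≅ L))
    (h1 : Subsingleton (Coh.HH Y (Coh.structureModule Y) 1)) (h2 : Subsingleton (Coh.HH Y (Coh.structureModule Y) 2))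
    (h1L : Subsingleton (Coh.HH Y L 1)) (n : ℕ) (b : Fin n → Γ(L, ⊤))
    (hb : ∀ t : Γ(L, ⊤), ∃ c : Fin n → Γ(Y, ⊤), t = ∑ i, c i • b i)
    (hcard : p ^ (2 * (n - 1)) < Nat.card G)
    (hsep : ∀ γ : G, γ ≠ 1 → ∃ t : Γ(L, ⊤), (ρ γ).hom ⁻¹ᵁ D t ≠ D t)
    {X : Scheme.{u}} (f : X ⟶ Spec (CommRingCat.of V)) [IsProper f] [Flat f] {i : Z ⟶ X}
    {a : Z ⟶ Spec (CommRingCat.of (IsLocalRing.ResidueField V))} :
    ¬ IsPullback i a f (Spec.map (CommRingCat.ofHom (IsLocalRing.residue V))) := by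
  intro hi
  have hH := henselianLocalRing V
  have hE := Cover.isEquivalence V f hi
  obtain ⟨W, H, j, hHf, hHe, hj⟩ := Cover.exists_cover i q
  have hjf : IsPullback j (q ≫ a) (H ≫ f) (Spec.map (CommRingCat.ofHom (IsLocalRing.residue V))) :=
    hj.paste_vert hi
  -- the action
  choose σ hσH hσj using fun γ => Cover.exists_end i hj (ρ γ).hom (hρ γ)
  have hσ : ∀ γ δ, σ γ ≫ σ δ = σ (γ * δ) := fun γ δ => by
    refine Cover.end_unique i hj _ _ (by rw [Category.assoc, hσH, hσH]) (hσH _) ?_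
    rw [← hσj (γ * δ), ← Category.assoc, ← hσj γ, Category.assoc, ← hσj δ, mul_comm γ δ, map_mul]
    rfl
  have hσ1 : σ 1 = 𝟙 W := by
    refine Cover.end_unique i hj _ _ (hσH _) (by simp) ?_
    rw [← hσj 1, map_one, Category.comp_id]
    exact Category.id_comp j
  -- the invertible module
  obtain ⟨L', hL', ⟨θ⟩⟩ := isSurjective (H ≫ f) hjf h2 L hL
  have hinj := isInjective (H ≫ f) hjf h1
  have hθ : ∀ γ, Nonempty ((Scheme.Modules.pullback (σ γ)).obj L' ≅ L') := fun γ => by
    refine nonempty_iso hinj (isInvertible_pullback _ hL') hL' ?_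
    obtain ⟨η⟩ := hinv γ
    exact ⟨(Scheme.Modules.pullbackComp j (σ γ)).app L' ≪≫ (Scheme.Modules.pullbackCongr (hσj γ).symm).app L' ≪≫
      ((Scheme.Modules.pullbackComp (ρ γ).hom j).app L').symm ≪≫
      (Scheme.Modules.pullback (ρ γ).hom).mapIso θ ≪≫ η ≪≫ θ.symm⟩
  have h1' : Subsingleton (Coh.HH Y ((Scheme.Modules.pullback j).obj L') 1) :=
    Groth.Agent.Fga.HShift.subsingleton_of_iso θ.symm 1 h1L
  have hGn : Nontrivial G := by
    rw [← Finite.one_lt_card_iff_nontrivial]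
    exact lt_of_le_of_lt (Nat.one_le_pow _ _ (Fact.out : p.Prime).pos) hcard
  have hθθ : ∀ t : Γ((Scheme.Modules.pullback j).obj L', ⊤), θ.inv.app ⊤ (θ.hom.app ⊤ t) = t := fun t => by
    have h3 : θ.hom ≫ θ.inv = 𝟙 _ := θ.hom_inv_id
    exact congr(($(h3).app ⊤) t)
  have hne : Nontrivial Γ((Scheme.Modules.pullback j).obj L', ⊤) := by
    by_contra hcon
    rw [not_nontrivial_iff_subsingleton] at hcon
    obtain ⟨γ, hγ⟩ := exists_ne (1 : G)
    obtain ⟨t, ht⟩ := hsep γ hγ
    apply ht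
    have h0 : ∀ s : Γ((Scheme.Modules.pullback j).obj L', ⊤), s = 0 := fun s => Subsingleton.elim _ _
    have hD0 : D (0 : Γ((Scheme.Modules.pullback j).obj L', ⊤)) = ⊥ := by
      rw [eq_bot_iff]
      intro y hy
      obtain ⟨W, hyW, hW⟩ := (mem_D_iff _ y).1 hy
      rw [map_zero] at hW
      have : Nontrivial Γ(Y, W) := by
        have : Nonempty W := ⟨⟨y, hyW⟩⟩
        exact Scheme.component_nontrivial Y W
      exact (zero_ne_one (α := Γ(Y, W)) (hW.ext (by rw [zero_smul, one_smul]))).elim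
    have hDt : D t = ⊥ := by
      rw [← D_app θ.inv t, h0 (θ.inv.app ⊤ t), hD0]
    rw [hDt]
    rfl
  obtain ⟨γ, hγ, hD⟩ := Core.main (H ≫ f) hL' hjf hG hpV h1' n (fun i => θ.inv.app ⊤ (b i)) (fun t => by
      obtain ⟨c, hc⟩ := hb (θ.hom.app ⊤ t)
      refine ⟨c, ?_⟩
      rw [← hθθ t, hc, map_sum]
      exact Finset.sum_congr rfl fun i _ => Scheme.Modules.Hom.app_smul θ.inv (c i) (b i))
    hne hcard σ (fun γ => by rw [← Category.assoc, hσH]) hσ hσ1 hθ (fun γ => (ρ γ).hom) hσj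
  obtain ⟨t, ht⟩ := hsep γ hγ
  have h3 := hD (θ.inv.app ⊤ t)
  rw [D_app] at h3
  exact ht h3

end Dvr

/-- The main theorem. -/
theorem no_lift {k : Type u} [Field k] [IsAlgClosed k] (p : ℕ) [Fact p.Prime] [CharP k p]
    {Y Z : Scheme.{u}} (g : Z ⟶ Spec (CommRingCat.of k)) (q : Y ⟶ Z) [IsFinite q] [Etale q]
    [ConnectedSpace Y] [IsReduced Y]
    {G : Type*} [CommGroup G] [Finite G] (hG : ∀ γ : G, γ ^ p = 1)
    (ρ : G →* Aut Y) (hρ : ∀ γ, (ρ γ).hom ≫ q = q)
    {L : Y.Modules} (hL : PicF.IsInvertible L)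
    (hinv : ∀ γ, Nonempty ((Scheme.Modules.pullback (ρ γ).hom).obj L ≅ L))
    (h1 : Subsingleton (Coh.HH Y (Coh.structureModule Y) 1)) (h2 : Subsingleton (Coh.HH Y (Coh.structureModule Y) 2))
    (h1L : Subsingleton (Coh.HH Y L 1)) (n : ℕ) (b : Fin n → Γ(L, ⊤))
    (hb : ∀ t : Γ(L, ⊤), ∃ c : Fin n → Γ(Y, ⊤), t = ∑ i, c i • b i)
    (hcard : p ^ (2 * (n - 1)) < Nat.card G)
    (hsep : ∀ γ : G, γ ≠ 1 → ∃ t : Γ(L, ⊤), (ρ γ).hom ⁻¹ᵁ D t ≠ D t)
    (R : Type u) [CommRing R] [IsDomain R] [IsLocalRing R] [IsNoetherianRing R] [CharZero R]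
    (e : IsLocalRing.ResidueField R ≃+* k) (Z' : Scheme.{u}) (g' : Z' ⟶ Spec (CommRingCat.of R))
    [IsProper g'] [Flat g'] (i : Z ⟶ Z') :
    ¬ IsPullback i (g ≫ Spec.map (CommRingCat.ofHom e.toRingHom)) g'
      (Spec.map (CommRingCat.ofHom (IsLocalRing.residue R))) := by
  intro hi
  have hac : IsAlgClosed (IsLocalRing.ResidueField R) := IsAlgClosed.of_ringEquiv k _ e.symm
  have hpR : (p : R) ∈ IsLocalRing.maximalIdeal R := by
    rw [← IsLocalRing.residue_eq_zero_iff, map_natCast]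
    apply e.injective
    rw [map_natCast, map_zero]
    exact CharP.cast_eq_zero k p
  have hpn : ¬ IsNilpotent (p : R) := fun h =>
    (Nat.cast_ne_zero (R := R)).2 (Fact.out : p.Prime).ne_zero h.eq_zero
  obtain ⟨V, _, _, _, φ, hφ, hbij, hcomp, hpV⟩ := K696.DvrRed.exists_dvr R (p : R) hpn hpR
  rw [map_natCast] at hpV
  have hacV : IsAlgClosed (IsLocalRing.ResidueField V) :=
    IsAlgClosed.of_ringEquiv _ _ (RingEquiv.ofBijective _ hbij)
  let ε : IsLocalRing.ResidueField R ≃+* IsLocalRing.ResidueField V :=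
    RingEquiv.ofBijective (IsLocalRing.ResidueField.map φ) hbij
  let E : Spec (CommRingCat.of (IsLocalRing.ResidueField V)) ≅ Spec (CommRingCat.of (IsLocalRing.ResidueField R)) :=
    Scheme.Spec.mapIso ε.toCommRingCatIso.op
  have hE : E.hom = Spec.map (CommRingCat.ofHom (IsLocalRing.ResidueField.map φ)) := rfl
  let a : Z ⟶ Spec (CommRingCat.of (IsLocalRing.ResidueField V)) := (g ≫ Spec.map (CommRingCat.ofHom e.toRingHom)) ≫ E.inv
  have hsq : Spec.map (CommRingCat.ofHom (IsLocalRing.residue V)) ≫ Spec.map (CommRingCat.ofHom φ) =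
      E.hom ≫ Spec.map (CommRingCat.ofHom (IsLocalRing.residue R)) := by
    rw [hE]
    refine (Spec.map_comp _ _).symm.trans (Eq.trans ?_ (Spec.map_comp _ _))
    rfl
  have hbig : IsPullback i a g' (Spec.map (CommRingCat.ofHom (IsLocalRing.residue V)) ≫
      Spec.map (CommRingCat.ofHom φ)) := by
    rw [hsq]
    refine IsPullback.of_iso hi (Iso.refl _) (Iso.refl _) E.symm (Iso.refl _) ?_ ?_ ?_ ?_
    · simp
    · simp [a]
    · simp
    · simp
  let f : pullback g' (Spec.map (CommRingCat.ofHom φ)) ⟶ Spec (CommRingCat.of V) :=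
    pullback.snd g' (Spec.map (CommRingCat.ofHom φ))
  have hw : i ≫ g' = (a ≫ Spec.map (CommRingCat.ofHom (IsLocalRing.residue V))) ≫ Spec.map (CommRingCat.ofHom φ) := by
    exact hbig.w.trans (Category.assoc _ _ _).symm
  have hs : IsPullback (pullback.lift i (a ≫ Spec.map (CommRingCat.ofHom (IsLocalRing.residue V))) hw) a f
      (Spec.map (CommRingCat.ofHom (IsLocalRing.residue V))) := by
    refine IsPullback.of_right (h₁₂ := pullback.fst g' (Spec.map (CommRingCat.ofHom φ)))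
      (h₂₂ := Spec.map (CommRingCat.ofHom φ)) (v₁₃ := g') ?_ ?_ (IsPullback.of_hasPullback _ _)
    · rw [pullback.lift_fst]
      exact hbig
    · exact pullback.lift_snd _ _ _
  exact not_isPullback_dvr hpV q hG ρ hρ hL hinv h1 h2 h1L n b hb hcard hsep f hs

end K561.NoLift
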