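import Groth.Agent.Models.K382.GenInt
import Groth.Agent.Ega3B.SecLiftMain
import Groth.Agent.Ega3B.FibreCmp
import Groth.Agent.Fdesc.LocGenPullback
import Groth.Agent.PerfA.CohSerre
import Groth.Agent.Coherent.K45.HomLift

/-!
# Sections of an invertible module on a proper flat scheme over a discrete valuation ring

`f : X ⟶ Spec V` flat, `j : Z ⟶ X` the closed fibre, `L` an invertible module on `X`.
* `smul_cancel`: the uniformizer is a nonzerodivisor on sections of `L`;
* `exists_smul_eq`: a section of `L` with zero restriction to `Z` is divisible by the uniformizer;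
* `exists_lift`: sections of `j^* L` lift if `H^1(Z, j^* L) = 0`.
-/

set_option autoImplicit false
universe u

open CategoryTheory CategoryTheory.Limits AlgebraicGeometry TopologicalSpace Opposite

namespace K561.SecDvr

open Groth.Agent Groth.Agent.Fdesc.LocGen Groth.Agent.Sga7.H543.SpecFib Groth.Agent.K382

variable {V : Type u} [CommRing V] [IsDomain V] [IsDiscreteValuationRing V]
  {X : Scheme.{u}} (f : X ⟶ Spec (CommRingCat.of V)) [Flat f]

/-- The uniformizer is a nonzerodivisor on the sections of an invertible module. -/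
theorem smul_cancel {ϖ : V} (hϖ : ϖ ≠ 0) {L : X.Modules} (hL : PicF.IsInvertible L) {U : X.Opens} (s t : Γ(L, U))
    (h : ores (le_top : U ≤ ⊤) (fn f ϖ) • s = ores (le_top : U ≤ ⊤) (fn f ϖ) • t) : s = t := by
  rw [isInvertible_iff] at hL
  choose W e hxW he using hL
  refine res_ext L (fun x : X => U ⊓ W x) (fun x => inf_le_left) ?_ fun x => ?_
  · intro x hx
    exact Opens.mem_iSup.2 ⟨x, hx, hxW x⟩
  · have hg := (he x).res (inf_le_right : U ⊓ W x ≤ W x)
    obtain ⟨a, ha⟩ := hg.exists_eq (res L inf_le_left s)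
    obtain ⟨b, hb⟩ := hg.exists_eq (res L inf_le_left t)
    have h1 := congrArg (res L (inf_le_left : U ⊓ W x ≤ U)) h
    rw [res_smul, res_smul, ha, hb, ores_ores, smul_smul, smul_smul] at h1
    have h2 := hg.ext h1
    rw [mul_comm, mul_comm _ b] at h2
    rw [ha, hb, GenInt.eq_of_mul_eq f hϖ a b h2]

theorem exists_affine_gen {L : X.Modules} (hL : PicF.IsInvertible L) (x : X) :
    ∃ (U : X.affineOpens) (e : Γ(L, U.1)), x ∈ U.1 ∧ IsGen e := by
  obtain ⟨W, e, hx, he⟩ := (isInvertible_iff L).1 hL x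
  obtain ⟨_, ⟨U, hU, rfl⟩, hxU, hUW⟩ := X.isBasis_affineOpens.exists_subset_of_mem_open hx W.isOpen
  exact ⟨⟨U, hU⟩, res L hUW e, hxU, he.res hUW⟩

/-- A section with zero restriction to the closed fibre is divisible by the uniformizer. -/
theorem exists_smul_eq {Z : Scheme.{u}} {j : Z ⟶ X}
    {q : Z ⟶ Spec (CommRingCat.of (IsLocalRing.ResidueField V))}
    (hj : IsPullback j q f (Spec.map (CommRingCat.ofHom (IsLocalRing.residue V))))
    {ϖ : V} (hϖ : Irreducible ϖ) {L : X.Modules} (hL : PicF.IsInvertible L) (s : Γ(L, ⊤))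
    (hs : pullTop j s = 0) : ∃ t : Γ(L, ⊤), s = fn f ϖ • t := by
  have hci := isClosedImmersion_of_isPullback hj
  choose U e hxU he using exists_affine_gen hL
  -- local solutions
  have hloc : ∀ x : X, ∃ t : Γ(L, (U x).1),
      res L le_top s = ores (le_top : (U x).1 ≤ ⊤) (fn f ϖ) • t := by
    intro x
    obtain ⟨a, ha⟩ := (he x).exists_eq (res L le_top s)
    have h1 := ker_ideal hj hϖ.maximalIdeal_eq (U x)
    rw [Scheme.Hom.ker_apply] at h1
    have h2 : pullSec j (res L (le_top : (U x).1 ≤ ⊤) s) = 0 := by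
      rw [← res_pullSec]
      change res _ _ (pullTop j s) = 0
      rw [hs, map_zero]
    rw [ha, pullSec_smul] at h2
    have h3 : (j.app (U x).1).hom a = 0 := ((he x).pullSec j).ext (by
      rw [zero_smul]
      exact h2)
    have h4 : a ∈ RingHom.ker (j.app (U x).1).hom := h3
    rw [h1, Ideal.mem_span_singleton'] at h4
    obtain ⟨b, hb⟩ := h4
    refine ⟨b • e x, ?_⟩
    rw [ha, smul_smul, ← hb, mul_comm]
  choose t ht using hloc
  have hcov : (⊤ : X.Opens) ≤ ⨆ x : X, (U x).1 := fun x _ => Opens.mem_iSup.2 ⟨x, hxU x⟩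
  obtain ⟨T, hT⟩ := res_glue L (fun x : X => (U x).1) (fun x => le_top) hcov t (by
    intro x y
    apply smul_cancel f hϖ.ne_zero hL
    have e1 := congrArg (res L (inf_le_left : (U x).1 ⊓ (U y).1 ≤ (U x).1)) (ht x)
    have e2 := congrArg (res L (inf_le_right : (U x).1 ⊓ (U y).1 ≤ (U y).1)) (ht y)
    rw [res_smul, res_res, ores_ores] at e1 e2
    exact e1.symm.trans e2)
  refine ⟨T, ?_⟩
  refine res_ext L (fun x : X => (U x).1) (fun x => le_top) hcov fun x => ?_
  rw [res_smul, hT x, ht x]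

/-- The closed fibre over the residue field of the maximal ideal. -/
theorem exists_isPullback {A : Type u} [CommRing A] [IsLocalRing A] {X Z : Scheme.{u}}
    {f : X ⟶ Spec (CommRingCat.of A)} {j : Z ⟶ X} {q : Z ⟶ Spec (CommRingCat.of (IsLocalRing.ResidueField A))}
    (hj : IsPullback j q f (Spec.map (CommRingCat.ofHom (IsLocalRing.residue A)))) :
    ∃ q' : Z ⟶ Spec (CommRingCat.of (IsLocalRing.maximalIdeal A).ResidueField),
      IsPullback j q' f (Spec.map (CommRingCat.ofHom (algebraMap A (IsLocalRing.maximalIdeal A).ResidueField))) := by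
  let e : IsLocalRing.ResidueField A ≃+* (IsLocalRing.maximalIdeal A).ResidueField :=
    RingEquiv.ofBijective (algebraMap (A ⧸ IsLocalRing.maximalIdeal A) (IsLocalRing.maximalIdeal A).ResidueField)
      (IsLocalRing.maximalIdeal A).bijective_algebraMap_quotient_residueField
  have he : ∀ a : A, e (IsLocalRing.residue A a) = algebraMap A (IsLocalRing.maximalIdeal A).ResidueField a :=
    fun a => rfl
  let E : Spec (CommRingCat.of (IsLocalRing.maximalIdeal A).ResidueField) ≅
      Spec (CommRingCat.of (IsLocalRing.ResidueField A)) := Scheme.Spec.mapIso e.toCommRingCatIso.op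
  refine ⟨q ≫ E.inv, ?_⟩
  refine IsPullback.of_iso hj (Iso.refl _) (Iso.refl _) E.symm (Iso.refl _) ?_ ?_ ?_ ?_
  · simp
  · simp
  · simp
  · simp only [Iso.refl_hom, Category.comp_id, Iso.symm_hom]
    rw [Iso.eq_inv_comp]
    refine (Spec.map_comp _ _).symm.trans ?_
    congr 1

/-- Sections of the closed fibre lift when `H^1` of the closed fibre vanishes. -/
theorem exists_lift {A : Type u} [CommRing A] [IsNoetherianRing A] [IsLocalRing A] {X Z : Scheme.{u}}
    (f : X ⟶ Spec (CommRingCat.of A)) [IsProper f] [Flat f] {j : Z ⟶ X}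
    {q : Z ⟶ Spec (CommRingCat.of (IsLocalRing.ResidueField A))}
    (hj : IsPullback j q f (Spec.map (CommRingCat.ofHom (IsLocalRing.residue A))))
    {L : X.Modules} (hL : FlatMod.IsFinLocFree L)
    (h1 : Subsingleton (Coh.HH Z ((Scheme.Modules.pullback j).obj L) 1))
    (t : Γ((Scheme.Modules.pullback j).obj L, ⊤)) : ∃ s : Γ(L, ⊤), pullTop j s = t := by
  let _ : X.Over (Spec (CommRingCat.of A)) := ⟨f⟩
  have hX : IsLocallyNoetherian X := LocallyOfFiniteType.isLocallyNoetherian f
  have hp : IsProper (X ↘ Spec (CommRingCat.of A)) := inferInstanceAs (IsProper f)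
  obtain ⟨q', H⟩ := exists_isPullback hj
  replace H : IsPullback j q' (X ↘ Spec (CommRingCat.of A))
    (Spec.map (CommRingCat.ofHom (algebraMap A (IsLocalRing.maximalIdeal A).ResidueField))) := H
  have hc : Coh.IsCoh L := PerfA.CohSerre.isCoh_of_isFinLocFree hL
  obtain ⟨e, -⟩ := Groth.Agent.Ega3B.FibreCmp.exists_cmp j q' H L hc.1 1
  obtain ⟨a, s, ha, hs⟩ := Groth.Agent.Ega3B.SecLiftMain.exists_sec_lift L hc
    (K45.HomLift.isFlatOver_of_flf f hL) (IsLocalRing.maximalIdeal A) e.symm.toEquiv.subsingleton H t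
  have ha' : IsUnit a := by
    by_contra h
    exact ha ((IsLocalRing.mem_maximalIdeal a).2 h)
  obtain ⟨b, hb⟩ := ha'.exists_left_inv
  have h2 : Groth.Agent.VarietyB.PullSec.sec j L (le_refl (j ⁻¹ᵁ ⊤)) s = pullTop j s := res_refl _ (pullSec j s)
  rw [h2] at hs
  refine ⟨fn f b • s, ?_⟩
  refine (pullSec_smul j (fn f b) s).trans ?_
  have h4 := Groth.Agent.Ega3B.SecLift.appLE_algSec H ⊤ (le_refl (j ⁻¹ᵁ ⊤)) b
  have h5 : j.app ⊤ (fn f b) = Groth.Agent.Ega3B.EqzSections.secMap q' (j ⁻¹ᵁ ⊤)
      (algebraMap A (IsLocalRing.maximalIdeal A).ResidueField b) := by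
    rw [← h4, Scheme.Hom.app_eq_appLE, fn, Groth.Agent.Ega3B.TensorASec.algSec, RingHom.comp_apply]
    congr 1
    change (f.app ⊤).hom _ = _
    rw [Scheme.Hom.app_eq_appLE]
    rfl
  rw [h5]
  change Groth.Agent.Ega3B.EqzSections.secMap q' (⊤ : Z.Opens)
      (algebraMap A (IsLocalRing.maximalIdeal A).ResidueField b) • pullTop j s = t
  replace hs : pullTop j s = Groth.Agent.Ega3B.EqzSections.secMap q' (⊤ : Z.Opens)
      (algebraMap A (IsLocalRing.maximalIdeal A).ResidueField a) • t := hs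
  rw [hs, smul_smul, ← map_mul, ← map_mul, hb, map_one, map_one, one_smul]

end K561.SecDvr
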